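import Mathlib
import Cfsg.Agent.Lib.Helper14.Spec.Defs
import Cfsg.Agent.Lib.Helper40.SpExist

set_option autoImplicit false

/-!
# S2362 (SPEC), package [SPTORUS]

A matrix of order exactly `q ^ d + 1` preserving a non-degenerate alternating form in dimension
`2 d`: multiplication by an element `ζ` of order `q ^ d + 1` in the field `L` with `q ^ (2 d)`
elements preserves the form `(a, c) ↦ Tr (a * c ^ (q ^ d))`, and `ζ - ζ⁻¹` is invertible.
-/

namespace Cfsg.Agent.Lib.Helper72.Spec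

open Module Matrix Cfsg.Agent.Lib.Helper14.Spec

universe u v

/-- the statement of [SPTORUS] from an extension field of degree `2 d` -/
theorem sptorus_aux {F : Type u} [Field F] [Fintype F] {L : Type v} [Field L] [Algebra F L]
    [Finite L] (d : ℕ) (hd : 1 ≤ d) (hfin : finrank F L = 2 * d) :
    ∃ (M y y' : Matrix (Fin (2 * d)) (Fin (2 * d)) F), y * y' = 1 ∧
      (∀ v : Fin (2 * d) → F, v ⬝ᵥ y.mulVec v = 0) ∧ M.transpose * y * M = y ∧
      ∀ k : ℕ, M ^ k = 1 ↔ (Fintype.card F ^ d + 1) ∣ k := by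
  classical
  have : Fintype L := Fintype.ofFinite L
  obtain ⟨q, hq⟩ : ∃ q : ℕ, q = Fintype.card F := ⟨_, rfl⟩
  have hq2 : 2 ≤ q := by rw [hq]; exact Fintype.one_lt_card
  have hcardL : Nat.card L = q ^ (2 * d) := by
    rw [Nat.card_eq_fintype_card, Module.card_eq_pow_finrank (K := F) (V := L), hfin, hq]
  have hqd : 2 ≤ q ^ d := by
    calc 2 ≤ q := hq2
      _ = q ^ 1 := (pow_one q).symm
      _ ≤ q ^ d := Nat.pow_le_pow_right (by omega) hd
  have hfac : q ^ (2 * d) - 1 = (q ^ d - 1) * (q ^ d + 1) := by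
    obtain ⟨a, ha⟩ : ∃ a, q ^ d = a + 2 := ⟨q ^ d - 2, by omega⟩
    rw [two_mul, pow_add, ha]
    have h1 : (a + 2) * (a + 2) = (a + 1) * (a + 3) + 1 := by ring
    rw [h1]
    rfl
  have hcardU : Nat.card Lˣ = (q ^ d - 1) * (q ^ d + 1) := by
    rw [Nat.card_units, hcardL, hfac]
  obtain ⟨γ, hγ⟩ := IsCyclic.exists_ofOrder_eq_natCard (α := Lˣ)
  obtain ⟨ζu, hζudef⟩ : ∃ ζu : Lˣ, ζu = γ ^ (q ^ d - 1) := ⟨_, rfl⟩
  have hζu : orderOf ζu = q ^ d + 1 := by
    rw [hζudef, orderOf_pow_of_dvd (by omega) (by rw [hγ, hcardU]; exact dvd_mul_right _ _),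
      hγ, hcardU, Nat.mul_div_cancel_left _ (by omega)]
  obtain ⟨ζ, hζdef⟩ : ∃ ζ : L, ζ = (ζu : L) := ⟨_, rfl⟩
  have hζ : orderOf ζ = q ^ d + 1 := by rw [hζdef, orderOf_units, hζu]
  have hζ0 : ζ ≠ 0 := by rw [hζdef]; exact Units.ne_zero ζu
  -- the matrices
  obtain ⟨b⟩ : Nonempty (Basis (Fin (2 * d)) F L) := ⟨Module.finBasisOfFinrankEq F L hfin⟩
  obtain ⟨A, hA⟩ : ∃ A : L →ₐ[F] Matrix (Fin (2 * d)) (Fin (2 * d)) F,
      A = Algebra.leftMulMatrix b := ⟨_, rfl⟩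
  have hAinj : Function.Injective A := by rw [hA]; exact Algebra.leftMulMatrix_injective b
  have hMM' : A ζ * A ζ⁻¹ = 1 := by rw [← map_mul, mul_inv_cancel₀ hζ0, map_one]
  have hpow : ∀ k : ℕ, A ζ ^ k = 1 ↔ (q ^ d + 1) ∣ k := by
    intro k
    rw [← map_pow, ← map_one A, hAinj.eq_iff, ← hζ, orderOf_dvd_iff_pow_eq_one]
  -- the Frobenius
  obtain ⟨σ, hσdef⟩ : ∃ σ : L →ₐ[F] L, σ = FiniteField.frobeniusAlgHom F L ^ d := ⟨_, rfl⟩
  have hσ : ∀ z, σ z = z ^ (q ^ d) := by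
    intro z
    rw [hσdef, AlgHom.coe_pow, FiniteField.coe_frobeniusAlgHom, pow_iterate, hq]
  have hσζ : ζ * σ ζ = 1 := by
    rw [hσ, ← pow_succ', ← hζ]; exact pow_orderOf_eq_one ζ
  have hσinj : Function.Injective σ := σ.toRingHom.injective
  have hσsurj : Function.Surjective σ := Finite.injective_iff_surjective.mp hσinj
  -- the form
  obtain ⟨β, hβ⟩ : ∃ β : LinearMap.BilinForm F L, ∀ a c, β a c = Algebra.trace F L (a * σ c) :=
    ⟨(Algebra.traceForm F L).compRight σ.toLinearMap, fun a c => rfl⟩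
  have hT : (Algebra.traceForm F L).Nondegenerate := traceForm_nondegenerate F L
  have hβnd : β.Nondegenerate := by
    constructor
    · intro a ha
      apply hT.1
      intro c
      obtain ⟨c', rfl⟩ := hσsurj c
      rw [Algebra.traceForm_apply, ← hβ]; exact ha c'
    · intro c hc
      apply hσinj
      rw [map_zero]
      apply hT.2
      intro a
      rw [Algebra.traceForm_apply, ← hβ]; exact hc a
  obtain ⟨x, hx⟩ : ∃ x : Matrix (Fin (2 * d)) (Fin (2 * d)) F, x = LinearMap.BilinForm.toMatrix b β :=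
    ⟨_, rfl⟩
  have hdet : x.det ≠ 0 := by
    rw [hx]; exact (LinearMap.BilinForm.nondegenerate_iff_det_ne_zero b).mp hβnd
  have hxx' : x * x⁻¹ = 1 := Matrix.mul_nonsing_inv x (isUnit_iff_ne_zero.mpr hdet)
  have hcomp : β.comp (Algebra.lmul F L ζ) (Algebra.lmul F L ζ) = β := by
    refine LinearMap.ext fun a => LinearMap.ext fun c => ?_
    show β (ζ * a) (ζ * c) = β a c
    rw [hβ, hβ, map_mul σ]
    have h1 : ζ * a * (σ ζ * σ c) = (ζ * σ ζ) * (a * σ c) := by ring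
    rw [h1, hσζ, one_mul]
  have hinv : (A ζ)ᵀ * x * A ζ = x := by
    have h := LinearMap.BilinForm.toMatrix_comp b b β (Algebra.lmul F L ζ) (Algebra.lmul F L ζ)
    rw [hcomp] at h
    rw [hA, hx]; exact h.symm
  have hne : ζ - ζ⁻¹ ≠ 0 := by
    intro h
    have h0 : ζ = ζ⁻¹ := sub_eq_zero.mp h
    have h1 : ζ ^ 2 = 1 := by
      rw [pow_two]
      nth_rewrite 2 [h0]
      exact mul_inv_cancel₀ hζ0
    have h2 := orderOf_dvd_of_pow_eq_one h1
    rw [hζ] at h2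
    have h3 := Nat.le_of_dvd (by norm_num) h2
    omega
  have hδ : (A ζ - A ζ⁻¹) * A (ζ - ζ⁻¹)⁻¹ = 1 := by
    rw [← map_sub, ← map_mul, mul_inv_cancel₀ hne, map_one]
  obtain ⟨y, y', h1, h2, h3⟩ :=
    Cfsg.Agent.Lib.Helper40.SpExist.exists_alt_invariant (A ζ) (A ζ⁻¹) x x⁻¹ _ hMM' hxx' hinv hδ
  refine ⟨A ζ, y, y', h1, h2, h3, ?_⟩
  rw [← hq]; exact hpow

/-- **[SPTORUS]** -/
theorem pkgSpTorus : PkgSpTorus.{u} := by
  intro F _ _ d hd
  obtain ⟨p, hp⟩ := CharP.exists F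
  have : Fact p.Prime := ⟨CharP.char_is_prime F p⟩
  have : NeZero (2 * d) := ⟨by omega⟩
  obtain ⟨M, y, y', h1, h2, h3, h4⟩ :=
    sptorus_aux (F := F) (L := FiniteField.Extension F p (2 * d)) d hd
      (FiniteField.finrank_extension F p (2 * d))
  exact ⟨Fin (2 * d), inferInstance, inferInstance, M, y, y', by simp, h1, h2, h3, h4⟩

end Cfsg.Agent.Lib.Helper72.Spec
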